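import Mathlib

universe u

namespace Groth.Agent.H5KosPB

open CategoryTheory

theorem mem_span_singleton_smul {A : Type*} [CommRing A] {M : Type*} [AddCommGroup M] [Module A M]
    (x : A) (N : Submodule A M) (m : M) : m ∈ Ideal.span {x} • N ↔ ∃ n ∈ N, m = x • n := by
  rw [Submodule.ideal_span_singleton_smul, Submodule.mem_smul_pointwise_iff_exists]
  constructor
  · rintro ⟨n, hn, rfl⟩; exact ⟨n, hn, rfl⟩
  · rintro ⟨n, hn, rfl⟩; exact ⟨n, hn, rfl⟩

theorem isPullback_abstract {A : Type u} [CommRing A] {M : Type u} [AddCommGroup M] [Module A M]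
    (Z B : Submodule A M) (hBZ : B ≤ Z) (x : A)
    (hxH : IsSMulRegular (↥Z ⧸ Submodule.comap Z.subtype B) x) :
    IsPullback
      (ModuleCat.ofHom (Submodule.factor (Submodule.comap_mono (Submodule.smul_mono le_rfl hBZ) :
        Submodule.comap Z.subtype (Ideal.span {x} • B) ≤
          Submodule.comap Z.subtype (Ideal.span {x} • Z))))
      (ModuleCat.ofHom (Submodule.factor (Submodule.comap_mono (Submodule.smul_le_right) :
        Submodule.comap Z.subtype (Ideal.span {x} • B) ≤ Submodule.comap Z.subtype B)))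
      (ModuleCat.ofHom (Submodule.factor (Submodule.comap_mono le_sup_right :
        Submodule.comap Z.subtype (Ideal.span {x} • Z) ≤
          Submodule.comap Z.subtype (B ⊔ Ideal.span {x} • Z))))
      (ModuleCat.ofHom (Submodule.factor (Submodule.comap_mono le_sup_left :
        Submodule.comap Z.subtype B ≤ Submodule.comap Z.subtype (B ⊔ Ideal.span {x} • Z)))) := by
  have hcomm : (ModuleCat.ofHom (Submodule.factor (Submodule.comap_mono (Submodule.smul_mono le_rfl hBZ) :
        Submodule.comap Z.subtype (Ideal.span {x} • B) ≤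
          Submodule.comap Z.subtype (Ideal.span {x} • Z)))) ≫
      (ModuleCat.ofHom (Submodule.factor (Submodule.comap_mono le_sup_right :
        Submodule.comap Z.subtype (Ideal.span {x} • Z) ≤
          Submodule.comap Z.subtype (B ⊔ Ideal.span {x} • Z)))) =
      (ModuleCat.ofHom (Submodule.factor (Submodule.comap_mono (Submodule.smul_le_right) :
        Submodule.comap Z.subtype (Ideal.span {x} • B) ≤ Submodule.comap Z.subtype B))) ≫
      (ModuleCat.ofHom (Submodule.factor (Submodule.comap_mono le_sup_left :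
        Submodule.comap Z.subtype B ≤ Submodule.comap Z.subtype (B ⊔ Ideal.span {x} • Z)))) := by
    rw [← ModuleCat.ofHom_comp, ← ModuleCat.ofHom_comp]
    congr 1
    apply Submodule.linearMap_qext
    ext z
    rfl
  refine IsPullback.of_map (forget (ModuleCat A)) hcomm ?_
  rw [Limits.Types.isPullback_iff]
  refine ⟨by rw [← Functor.map_comp, ← Functor.map_comp, hcomm], ?_, ?_⟩
  · rintro a b ⟨h1, h2⟩
    obtain ⟨a, rfl⟩ := Submodule.Quotient.mk_surjective _ a
    obtain ⟨b, rfl⟩ := Submodule.Quotient.mk_surjective _ b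
    have h1' : (Submodule.Quotient.mk a : ↥Z ⧸ Submodule.comap Z.subtype (Ideal.span {x} • Z)) =
        Submodule.Quotient.mk b := h1
    have h2' : (Submodule.Quotient.mk a : ↥Z ⧸ Submodule.comap Z.subtype B) =
        Submodule.Quotient.mk b := h2
    rw [Submodule.Quotient.eq] at h1' h2' ⊢
    rw [Submodule.mem_comap] at h1' h2' ⊢
    rw [mem_span_singleton_smul] at h1' ⊢
    obtain ⟨z', hz', hzz⟩ := h1'
    -- x • z' ∈ B, so z' ∈ B by regularity
    have h3 : (x • (Submodule.Quotient.mk (⟨z', hz'⟩ : ↥Z) :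
        ↥Z ⧸ Submodule.comap Z.subtype B)) = x • 0 := by
      rw [smul_zero, ← Submodule.Quotient.mk_smul, Submodule.Quotient.mk_eq_zero,
        Submodule.mem_comap]
      show x • z' ∈ B
      rw [← hzz]; exact h2'
    have h4 := hxH h3
    rw [Submodule.Quotient.mk_eq_zero, Submodule.mem_comap] at h4
    exact ⟨z', h4, hzz⟩
  · intro a b hab
    obtain ⟨a, rfl⟩ := Submodule.Quotient.mk_surjective _ a
    obtain ⟨b, rfl⟩ := Submodule.Quotient.mk_surjective _ b
    have hab' : (Submodule.Quotient.mk a :
        ↥Z ⧸ Submodule.comap Z.subtype (B ⊔ Ideal.span {x} • Z)) = Submodule.Quotient.mk b := hab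
    rw [Submodule.Quotient.eq, Submodule.mem_comap, Submodule.mem_sup] at hab'
    obtain ⟨b', hb', c, hc, hbc⟩ := hab'
    rw [mem_span_singleton_smul] at hc
    obtain ⟨z', hz', rfl⟩ := hc
    -- take z = a - x z' = b + b'
    refine ⟨Submodule.Quotient.mk (a - x • ⟨z', hz'⟩), ?_, ?_⟩
    · show (Submodule.Quotient.mk (a - x • ⟨z', hz'⟩) :
        ↥Z ⧸ Submodule.comap Z.subtype (Ideal.span {x} • Z)) = Submodule.Quotient.mk a
      rw [Submodule.Quotient.eq, Submodule.mem_comap, mem_span_singleton_smul]
      refine ⟨-z', Z.neg_mem hz', ?_⟩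
      simp
    · show (Submodule.Quotient.mk (a - x • ⟨z', hz'⟩) :
        ↥Z ⧸ Submodule.comap Z.subtype B) = Submodule.Quotient.mk b
      rw [Submodule.Quotient.eq, Submodule.mem_comap]
      have : Z.subtype (a - x • ⟨z', hz'⟩ - b) = b' := by
        have h5 : Z.subtype (a - b) = b' + x • z' := hbc.symm
        simp only [map_sub, Submodule.subtype_apply, Submodule.coe_smul] at h5 ⊢
        rw [sub_right_comm, h5]; abel
      rw [this]; exact hb'

end Groth.Agent.H5KosPB
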